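import Cfsg.Agent.Lib.BSW.ClsD
import Cfsg.Agent.Lib.H5Kegel
import Cfsg.Agent.Lib.H5Involutions

/-! Normal partitions of finite groups: basic facts (Baer, Kegel). -/

namespace CfsgLib.Part

open Subgroup Cfsg CfsgLib.BSW

variable {G : Type*} [Group G]

/-- A conjugation-invariant partition; `c x` is the component of `x` (and `c 1 = ⊥`). -/
structure Part (G : Type*) [Group G] where
  c : G → Subgroup G
  mem : ∀ x, x ∈ c x
  eq : ∀ {x y}, y ≠ 1 → y ∈ c x → c y = c x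
  conj : ∀ (g) {x y}, y ∈ c x → g * y * g⁻¹ ∈ c (g * x * g⁻¹)

theorem exists_part (S : Set (Subgroup G)) (hS2 : ∃ H ∈ S, ∃ K ∈ S, H ≠ K)
    (hS1 : ∀ H ∈ S, H ≠ ⊥) (hpart : ∀ g : G, g ≠ 1 → ∃! H : Subgroup G, H ∈ S ∧ g ∈ H) :
    ∃ π : Part G, ∀ x, π.c x ≠ ⊤ := by
  classical
  let σ : G → Subgroup G := fun x => if h : x = 1 then ⊥ else (hpart x h).exists.choose
  have h1 : ∀ x, x ≠ 1 → σ x ∈ S ∧ x ∈ σ x := fun x hx => by
    simp only [σ, dif_neg hx]
    exact (hpart x hx).exists.choose_spec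
  have h0 : σ 1 = ⊥ := by simp [σ]
  have h2 : ∀ x, x ∈ σ x := fun x => by
    by_cases hx : x = 1
    · rw [hx]; exact one_mem _
    · exact (h1 x hx).2
  have h3 : ∀ x y, y ≠ 1 → y ∈ σ x → σ y = σ x := fun x y hy hxy => by
    have hx : x ≠ 1 := by
      rintro rfl
      rw [h0] at hxy
      exact hy hxy
    exact (hpart y hy).unique (h1 y hy) ⟨(h1 x hx).1, hxy⟩
  let c : G → Subgroup G := fun x => ⨅ g : G, (σ (g * x * g⁻¹)).comap (MulAut.conj g).toMonoidHom
  have hc : ∀ x y, y ∈ c x ↔ ∀ g, g * y * g⁻¹ ∈ σ (g * x * g⁻¹) := fun x y => by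
    simp [c, mem_iInf]
  refine ⟨⟨c, fun x => (hc x x).mpr fun g => h2 _, fun {x y} hy hxy => ?_,
    fun g x y hxy => (hc _ _).mpr fun k => ?_⟩, fun x e => ?_⟩
  · ext z
    rw [hc, hc]
    exact forall_congr' fun g => by rw [h3 _ _ (by simpa using hy) ((hc x y).mp hxy g)]
  · have := (hc x y).mp hxy (k * g)
    simpa [mul_assoc] using this
  · have h4 : σ x = ⊤ := eq_top_iff.mpr fun y _ => by
      have : y ∈ c x := by
        change c x = ⊤ at e
        rw [e]; trivial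
      simpa using (hc x y).mp this 1
    obtain ⟨H, hH, K, hK, hne⟩ := hS2
    have key : ∀ L ∈ S, L = σ x := fun L hL => by
      obtain ⟨⟨y, hy⟩, hy1⟩ := ne_bot_iff_exists_ne_one.mp (hS1 L hL)
      have hy1' : y ≠ 1 := fun e => hy1 (Subtype.ext e)
      have hx : x ≠ 1 := by
        rintro rfl
        rw [h0] at h4
        exact hy1' (h4.ge (mem_top y))
      exact (hpart y hy1').unique ⟨hL, hy⟩ ⟨(h1 x hx).1, h4.ge (mem_top y)⟩
    exact hne ((key H hH).trans (key K hK).symm)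

theorem exists_pow_notMem [Finite G] {X : Subgroup G} {g : G} (hg : g ∉ X) :
    ∃ k p : ℕ, p.Prime ∧ g ^ k ∉ X ∧ (g ^ k) ^ p ∈ X := by
  classical
  have h : ∃ n : ℕ, 0 < n ∧ g ^ n ∈ X := ⟨orderOf g, orderOf_pos g, by simp⟩
  obtain ⟨h1, h2⟩ := Nat.find_spec h
  have h3 : Nat.find h ≠ 1 := fun e => hg (by rwa [e, pow_one] at h2)
  obtain ⟨p, hp, k, hk⟩ := Nat.exists_prime_and_dvd h3
  have hk0 : 0 < k := Nat.pos_of_mul_pos_left (hk ▸ h1)
  refine ⟨k, p, hp, fun e => Nat.find_min h (m := k) ?_ ⟨hk0, e⟩, ?_⟩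
  · rw [hk]
    exact lt_mul_of_one_lt_left hk0 hp.one_lt
  · rwa [← pow_mul, mul_comm, ← hk]

theorem inverts_of_fpf [Finite G] {K : Subgroup G} {v : G} (hv : v * v = 1)
    (hn : ∀ k ∈ K, v * k * v⁻¹ ∈ K) (hf : ∀ k ∈ K, v * k = k * v → k = 1) {k : G} (hk : k ∈ K) :
    v * k * v⁻¹ = k⁻¹ := by
  obtain ⟨x, -, e⟩ := Frob.exists_conj_eq_mul_of_fpf hn hf hk
  have h1 : k * v * (k * v) = 1 := by rw [← e, conj_mul, hv]; simp
  rw [inv_eq_of_mul_eq_one_right hv]
  exact eq_inv_of_mul_eq_one_right (by rw [← h1]; group)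

theorem exists_fixed [Finite G] {p : ℕ} [Fact p.Prime] {V : Subgroup G} (hV : IsPGroup p V)
    (h1 : V ≠ ⊥) {y : G} (hy : y ∈ normalizer (V : Set G)) (hk : ∃ k, orderOf y = p ^ k) :
    ∃ x ∈ V, x ≠ 1 ∧ y * x = x * y := by
  have h2 : IsPGroup p (zpowers y ⊔ V : Subgroup G) :=
    (isPGroup_zpowers_iff.mpr hk).to_sup_of_normal_right' hV (zpowers_le.mpr hy)
  have h3 := inf_centralizer_ne_bot_of_isNilpotent h2.isNilpotent le_sup_right
    (sup_le (zpowers_le.mpr hy) le_normalizer) h1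
  obtain ⟨⟨x, hx, hx'⟩, hx1⟩ := ne_bot_iff_exists_ne_one.mp h3
  exact ⟨x, hx, fun e => hx1 (Subtype.ext e),
    mem_centralizer_iff.mp hx' y (mem_sup_left (mem_zpowers y))⟩

/-- The centre of `O_p(X)` for a nilpotent subgroup `X`. -/
theorem exists_central [Finite G] {p : ℕ} [hp : Fact p.Prime] {X : Subgroup G}
    (hX : Group.IsNilpotent X) (hd : p ∣ Nat.card X) :
    ∃ V : Subgroup G, V ≤ X ∧ V ≠ ⊥ ∧ IsPGroup p V ∧ (∀ v ∈ V, ∀ x ∈ X, x * v = v * x) ∧
      normalizer (X : Set G) ≤ normalizer (V : Set G) := by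
  set O := (pCore p X).map X.subtype with hO
  have h1 : O ≠ ⊥ := by
    obtain ⟨y, hy⟩ := exists_prime_orderOf_dvd_card' p hd
    have h2 : zpowers y ≤ pCore p X := le_pCore_of_isSubnormal (isSubnormal_of_isNilpotent _)
      (isPGroup_zpowers_iff.mpr ⟨1, by rw [hy, pow_one]⟩)
    intro e
    have h3 : (y : G) ∈ O := ⟨y, h2 (mem_zpowers y), rfl⟩
    rw [e, mem_bot, OneMemClass.coe_eq_one] at h3
    rw [h3, orderOf_one] at hy
    exact hp.out.one_lt.ne hy
  have h2 := normalizer_le_normalizer_map_pCore p X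
  refine ⟨O ⊓ centralizer (X : Set G), inf_le_left.trans (map_subtype_le _),
    inf_centralizer_ne_bot_of_isNilpotent hX (map_subtype_le _) (le_normalizer.trans h2) h1,
    (map_pCore_isPGroup p X).to_inf_left, fun v hv x hx => mem_centralizer_iff.mp hv.2 x hx,
    fun g hg => mem_normalizer_of_conj_mem fun v hv => ⟨conj_mem_of_mem_normalizer (h2 hg) hv.1,
      conj_mem_of_mem_normalizer (Cop.normalizer_le_normalizer_centralizer _ hg) hv.2⟩⟩

/-- Frobenius-type lemma for an isolated normal subgroup. -/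
theorem cent_of_isolated [Finite G] {X V : Subgroup G} [X.Normal] [V.Normal]
    (hX : ∀ g ∉ X, ∀ n : ℕ, g ^ n ∈ X → g ^ n = 1) (hVX : V ≤ X)
    (hV : ∀ v ∈ V, ∀ x ∈ X, x * v = v * x) {Q : Subgroup (G ⧸ X)} {t : G ⧸ X}
    (ht : t ∈ normalizer (Q : Set (G ⧸ X))) {p : ℕ} (hp : p.Prime)
    (h : ∀ x ∈ Q, x * t ≠ 1 ∧ (x * t) ^ p = 1) (hc : (Nat.card Q).Coprime (Nat.card V)) {g : G}
    (hg : (g : G ⧸ X) ∈ Q) {v : G} (hv : v ∈ V) : g * v = v * g := by
  let φ : G ⧸ X →* MulAut V := QuotientGroup.lift X MulAut.conjNormal fun x hx => by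
    ext w
    simp [hV w w.2 x hx]
  have hφ : ∀ g : G, φ g = MulAut.conjNormal g := fun g => rfl
  let Γ := V ⋊[φ] (G ⧸ X)
  have : Finite Γ := Finite.of_equiv _ SemidirectProduct.equivProd.symm
  let V' : Subgroup Γ := (SemidirectProduct.inl : V →* Γ).range
  have hn : V'.Normal := by
    rw [show V' = _ from SemidirectProduct.range_inl_eq_ker_rightHom]
    infer_instance
  have hcomm : IsMulCommutative V' := BSW.isMulCommutative_iff'.mpr (by
    rintro _ ⟨a, rfl⟩ _ ⟨b, rfl⟩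
    rw [← map_mul, ← map_mul]
    exact congrArg _ (Subtype.ext (hV b b.2 a (hVX a.2))))
  have key := H5.le_centralizer_of_coset_pow (G := Γ) hp (V := V')
    (Q := Q.map SemidirectProduct.inr) hcomm (t := SemidirectProduct.inr t)
    (mem_normalizer_of_conj_mem (by
      rintro _ ⟨x, hx, rfl⟩
      exact ⟨t * x * t⁻¹, conj_mem_of_mem_normalizer ht hx, by simp⟩)) (by
      rintro _ ⟨a, rfl⟩ _ ⟨x, hx, rfl⟩
      obtain ⟨h1, h2⟩ := h x hx
      obtain ⟨s, hs⟩ := QuotientGroup.mk_surjective (x * t)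
      rw [← map_mul, H5.inl_mul_inr_pow, h2, map_one, mul_one, ← hs]
      have hsX : s ∉ X := fun e => h1 (hs ▸ (QuotientGroup.eq_one_iff s).mpr e)
      have h3 : s ^ p ∈ X := by
        rw [← QuotientGroup.eq_one_iff, QuotientGroup.mk_pow, hs, h2]
      have h4 : (a : G) * s ∉ X := fun e => hsX ((mul_mem_cancel_left (hVX a.2)).mp e)
      have h5 := H5.mul_pow_eq_prod_conj V s a p
      rw [hX _ h4 p (by rw [h5]; exact mul_mem (hVX (SetLike.coe_mem _)) h3), hX s hsX p h3,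
        mul_one, eq_comm, OneMemClass.coe_eq_one] at h5
      simp only [← QuotientGroup.mk_pow, hφ, h5, map_one]) (by
      rwa [card_map_of_injective SemidirectProduct.inr_injective,
        ← Nat.card_congr (MonoidHom.ofInjective SemidirectProduct.inl_injective).toEquiv])
  have h1 := mem_centralizer_iff.mp (key ⟨g, hg, rfl⟩) (SemidirectProduct.inl ⟨v, hv⟩) ⟨_, rfl⟩
  have h2 : v = g * v * g⁻¹ := by
    have h1' : (SemidirectProduct.inl ⟨v, hv⟩ * SemidirectProduct.inr (g : G ⧸ X) :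
        V ⋊[φ] (G ⧸ X)) = SemidirectProduct.inr (g : G ⧸ X) * SemidirectProduct.inl ⟨v, hv⟩ := h1
    have := congrArg (fun z : V ⋊[φ] (G ⧸ X) => (z.left : G)) h1'
    simpa [hφ] using this
  rw [eq_comm, mul_inv_eq_iff_eq_mul] at h2
  exact h2

namespace Part

variable (π : Part G)

/-- restriction to a subgroup -/
def res (M : Subgroup G) : Part M where
  c x := (π.c x).subgroupOf M
  mem x := π.mem x
  eq hy h := by rw [π.eq (fun e => hy (Subtype.ext e)) h]
  conj g _ _ h := π.conj g h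

variable {π}

theorem eq_of_mem {x y z : G} (hz : z ≠ 1) (hx : z ∈ π.c x) (hy : z ∈ π.c y) : π.c x = π.c y :=
  (π.eq hz hx).symm.trans (π.eq hz hy)

theorem mem_of_mem {x y z : G} (hz : z ≠ 1) (hx : z ∈ π.c x) (hy : z ∈ π.c y) : y ∈ π.c x :=
  eq_of_mem hz hx hy ▸ π.mem y

theorem pow_eq_one {x g : G} (hg : g ∉ π.c x) {n : ℕ} (h : g ^ n ∈ π.c x) : g ^ n = 1 := by
  by_contra h1
  exact hg (mem_of_mem h1 h (pow_mem (π.mem g) n))

theorem conj_mem {x y g : G} (hy : y ∈ π.c x) (hy1 : y ≠ 1) (h : g * y * g⁻¹ ∈ π.c x) {z : G}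
    (hz : z ∈ π.c x) : g * z * g⁻¹ ∈ π.c x :=
  eq_of_mem (z := g * y * g⁻¹) (by simpa using hy1) h (π.conj g hy) ▸ π.conj g hz

theorem mem_norm [Finite G] {x y g : G} (hy : y ∈ π.c x) (hy1 : y ≠ 1)
    (h : g * y * g⁻¹ ∈ π.c x) : g ∈ normalizer (π.c x : Set G) :=
  mem_normalizer_of_conj_mem fun _ hz => conj_mem hy hy1 h hz

theorem mem_norm_of_comm [Finite G] {x y g : G} (hy : y ∈ π.c x) (hy1 : y ≠ 1)
    (h : g * y = y * g) : g ∈ normalizer (π.c x : Set G) :=
  mem_norm hy hy1 (by rwa [h, mul_inv_cancel_right])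

theorem normal_of_le [Finite G] {x : G} {V : Subgroup G} [hV : V.Normal] (h1 : V ≠ ⊥)
    (h : V ≤ π.c x) : (π.c x).Normal := by
  obtain ⟨⟨y, hy⟩, hy1⟩ := ne_bot_iff_exists_ne_one.mp h1
  exact ⟨fun z hz g => conj_mem (h hy) (fun e => hy1 (Subtype.ext e)) (h (hV.conj_mem y hy g)) hz⟩

theorem pow_orderOf_of_comm {x y g : G} (hy : y ∈ π.c x) (hy1 : y ≠ 1) (hg : g ∉ π.c x)
    (h : g * y = y * g) : g ^ orderOf y = 1 := by
  by_contra h1
  have h2 : (g * y) ^ orderOf y = g ^ orderOf y := by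
    rw [Commute.mul_pow h, pow_orderOf_eq_one, mul_one]
  have h3 : g * y ∈ π.c g := mem_of_mem h1 (pow_mem (π.mem g) _) (h2 ▸ pow_mem (π.mem _) _)
  exact hg (mem_of_mem hy1 hy ((mul_mem_cancel_left (π.mem g)).mp h3))

theorem order_of_comm [Finite G] {x y g : G} (hy : y ∈ π.c x) (hy1 : y ≠ 1) (hg : g ∉ π.c x)
    (h : g * y = y * g) : (orderOf y).Prime ∧ orderOf g = orderOf y := by
  have hg1 : g ≠ 1 := fun e => hg (e ▸ one_mem _)
  have h1 : y ∉ π.c g := fun e => hg (mem_of_mem hy1 hy e)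
  have h2 := orderOf_dvd_of_pow_eq_one (pow_orderOf_of_comm (π.mem g) hg1 h1 h.symm)
  obtain ⟨p, hp, hd⟩ := Nat.exists_prime_and_dvd (mt orderOf_eq_one_iff.mp hy1)
  have h3 := orderOf_pow_orderOf_div (orderOf_pos y).ne' hd
  have h4 := pow_orderOf_of_comm (pow_mem hy (orderOf y / p)) (fun e => by
    rw [e, orderOf_one] at h3; exact hp.one_lt.ne h3) hg (Commute.pow_right h _).eq
  rw [h3] at h4
  have h5 := orderOf_dvd_of_pow_eq_one h4
  have h6 : orderOf y = p := Nat.dvd_antisymm (h2.trans h5) hd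
  exact ⟨h6 ▸ hp, Nat.dvd_antisymm (h6 ▸ h5) h2⟩

theorem mem_of_comm [Finite G] {x y g : G} (hy : y ∈ π.c x) (hy1 : y ≠ 1) (h : g * y = y * g)
    (ho : orderOf g ≠ orderOf y) : g ∈ π.c x := by
  by_contra hg
  exact ho (order_of_comm hy hy1 hg h).2

theorem coset_pow {x g : G} (hg : g ∈ normalizer (π.c x : Set G)) (hgX : g ∉ π.c x) {n : ℕ}
    (hn : g ^ n ∈ π.c x) {y : G} (hy : y ∈ π.c x) : (y * g) ^ n = 1 := by
  refine pow_eq_one (fun e => hgX ((mul_mem_cancel_left hy).mp e)) ?_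
  have : ∀ m : ℕ, (y * g) ^ m * (g ^ m)⁻¹ ∈ π.c x := fun m => by
    induction m with
    | zero => simp
    | succ m ih =>
      have e : (y * g) ^ (m + 1) * (g ^ (m + 1))⁻¹ =
          y * (g * ((y * g) ^ m * (g ^ m)⁻¹) * g⁻¹) := by
        rw [pow_succ', pow_succ']; group
      rw [e]
      exact mul_mem hy (conj_mem_of_mem_normalizer hg ih)
  simpa using mul_mem (this n) hn

theorem exists_norm [Finite G] {x : G} (h : ¬ normalizer (π.c x : Set G) ≤ π.c x) :
    ∃ u ∈ normalizer (π.c x : Set G), u ∉ π.c x ∧ ∃ s : ℕ, s.Prime ∧ u ^ s = 1 := by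
  obtain ⟨g, hg, hgX⟩ := SetLike.not_le_iff_exists.mp h
  obtain ⟨k, p, hp, h1, h2⟩ := exists_pow_notMem hgX
  exact ⟨g ^ k, pow_mem hg k, h1, p, hp, pow_eq_one h1 h2⟩

theorem isNilpotent [Finite G] {x : G} (h : ¬ normalizer (π.c x : Set G) ≤ π.c x) :
    Group.IsNilpotent (π.c x) := by
  obtain ⟨u, hu, huX, s, hs, e⟩ := exists_norm h
  exact H5.isNilpotent_of_coset_pow_eq_one hs hu fun y hy => coset_pow hu huX (e ▸ one_mem _) hy

theorem frob [Finite G] {x : G} (hx : x ≠ 1) (ht : π.c x ≠ ⊤)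
    (h : normalizer (π.c x : Set G) ≤ π.c x) : IsFrobeniusComplement (π.c x) := by
  refine Frob.isFrobeniusComplement_iff.mpr ⟨fun e => hx (e.le (π.mem x)), ht, fun g hg y hy e => ?_⟩
  by_contra hy1
  exact hg (h (mem_norm hy hy1 e))

/-- If `y` outside the normal component commutes with a nontrivial element of it, then so does
the component of `y`. -/
theorem comm_of_normal [Finite G] {x y z g : G} [hn : (π.c x).Normal] (hy : y ∉ π.c x)
    (hz : z ∈ π.c x) (h : y * z = z * y) (hg : g ∈ π.c y) : g * z = z * g := by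
  have hy1 : y ≠ 1 := fun e => hy (e ▸ one_mem _)
  have h1 : z * g * z⁻¹ * g⁻¹ ∈ π.c y :=
    mul_mem (conj_mem_of_mem_normalizer (mem_norm_of_comm (π.mem y) hy1 h.symm) hg) (inv_mem hg)
  have h2 : z * g * z⁻¹ * g⁻¹ ∈ π.c x := by
    rw [mul_assoc, mul_assoc, ← mul_assoc g]
    exact mul_mem hz (hn.conj_mem _ (inv_mem hz) g)
  have h3 : z * g * z⁻¹ * g⁻¹ = 1 := by
    by_contra e
    exact hy (mem_of_mem e h2 h1)
  rw [mul_inv_eq_one, mul_inv_eq_iff_eq_mul] at h3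
  exact h3.symm

/-- A normal nilpotent component whose order is not a prime power. -/
theorem hughes [Finite G] {x u z : G} [hn : (π.c x).Normal] (hX : Group.IsNilpotent (π.c x))
    (hu : u ∉ π.c x) (hz : z ∈ π.c x) (hz1 : z ≠ 1) (h : u * z = z * u) {r : ℕ} (hr : r.Prime)
    (hd : r ∣ Nat.card (π.c x)) (hne : r ≠ orderOf u) {g : G} (hg : g ∉ π.c x) :
    g ^ orderOf u = 1 := by
  obtain ⟨hp, e⟩ := order_of_comm hz hz1 hu h
  set X := π.c x with hXdef
  set p := orderOf u with hpdef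
  rw [← e] at hp
  have := Fact.mk hp
  have := Fact.mk hr
  have iso : ∀ g ∉ X, ∀ n : ℕ, g ^ n ∈ X → g ^ n = 1 := fun g hg n h => pow_eq_one hg h
  have hpX : p ∣ Nat.card X := e ▸ orderOf_dvd_natCard _ hz
  obtain ⟨V, hVX, hV1, hVp, hVc, hVn⟩ := exists_central hX hpX
  obtain ⟨W, hWX, hW1, hWp, hWc, hWn⟩ := exists_central hX hd
  rw [normalizer_eq_top, top_le_iff, normalizer_eq_top_iff] at hVn hWn
  have hub : (u : G ⧸ X) ≠ 1 := fun e => hu ((QuotientGroup.eq_one_iff u).mp e)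
  have hup : orderOf (u : G ⧸ X) = p :=
    orderOf_eq_prime (by rw [← QuotientGroup.mk_pow, pow_orderOf_eq_one]; rfl) hub
  set U := zpowers (u : G ⧸ X) with hU
  have hUc : Nat.card U = p := by rw [hU, Nat.card_zpowers, hup]
  have hgen : ∀ a ∈ U, a ≠ 1 → zpowers a = U := fun a ha ha1 => by
    have h1 : orderOf a ∣ p := hUc ▸ orderOf_dvd_natCard _ ha
    have h2 := ((Nat.dvd_prime hp).mp h1).resolve_left (mt orderOf_eq_one_iff.mp ha1)
    exact eq_of_le_of_card_le (zpowers_le.mpr ha) (by rw [hUc, Nat.card_zpowers, h2])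
  have hN : normalizer (U : Set (G ⧸ X)) ≤ U := by
    intro w hw
    by_contra hwU
    obtain ⟨k, b, hb, h1, h2⟩ := exists_pow_notMem hwU
    have hw' := pow_mem hw k
    generalize w ^ k = t at h1 h2 hw'
    obtain ⟨⟨a, ha⟩, ha1⟩ := ne_bot_iff_exists_ne_one.mp hW1
    have ha1' : a ≠ 1 := fun e => ha1 (Subtype.ext e)
    have key := cent_of_isolated iso hWX hWc hw' hb (fun y hy => ?_) ?_ (mem_zpowers _) ha
    · obtain ⟨k, hk⟩ := IsPGroup.iff_orderOf.mp hWp ⟨a, ha⟩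
      obtain ⟨h3, h4⟩ := order_of_comm (hWX ha) ha1' hu key
      rw [orderOf_mk] at hk
      rw [← h4, ← hpdef] at hk
      exact hne ((Nat.prime_dvd_prime_iff_eq hp hr).mp (hp.dvd_of_dvd_pow hk.dvd)).symm
    · have h3 : y * t ∉ U := fun e => h1 ((mul_mem_cancel_left hy).mp e)
      refine ⟨fun e => h3 (e ▸ one_mem _), ?_⟩
      have h4 : (y * t) ^ b ∈ U := by
        have : ∀ m : ℕ, (y * t) ^ m * (t ^ m)⁻¹ ∈ U := fun m => by
          induction m with
          | zero => simp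
          | succ m ih =>
            have e : (y * t) ^ (m + 1) * (t ^ (m + 1))⁻¹ =
                y * (t * ((y * t) ^ m * (t ^ m)⁻¹) * t⁻¹) := by
              rw [pow_succ', pow_succ']; group
            rw [e]
            exact mul_mem hy (conj_mem_of_mem_normalizer hw' ih)
        simpa using mul_mem (this b) h2
      by_contra h5
      obtain ⟨s, hs⟩ := QuotientGroup.mk_surjective (y * t)
      rw [← hs] at h3 h4 h5
      rw [← QuotientGroup.mk_pow] at h4 h5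
      have h6 : s ^ b ∉ X := fun e => h5 ((QuotientGroup.eq_one_iff _).mpr e)
      have h7 : (s ^ b) ^ p = 1 := iso _ h6 p (by
        rw [← QuotientGroup.eq_one_iff, QuotientGroup.mk_pow, ← hUc]
        exact orderOf_dvd_iff_pow_eq_one.mp (orderOf_dvd_natCard _ h4))
      have h8 : orderOf (s ^ b) = p := orderOf_eq_prime h7 fun e => h6 (e ▸ one_mem _)
      obtain ⟨a, ha, ha1, hc⟩ := exists_fixed hVp hV1 (y := s ^ b)
        (by rw [normalizer_eq_top]; trivial) ⟨1, by rw [h8, pow_one]⟩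
      have hsX : s ∉ X := fun e => h6 (pow_mem e b)
      have h9 := comm_of_normal h6 (hVX ha) hc (g := s)
        (mem_of_mem (z := s ^ b) (fun e => h6 (e ▸ one_mem _)) (π.mem _) (pow_mem (π.mem s) b))
      have h10 : orderOf s = p := by
        rw [(order_of_comm (hVX ha) ha1 hsX h9).2, ← (order_of_comm (hVX ha) ha1 h6 hc).2, h8]
      have h11 : zpowers (s ^ b) = zpowers s := eq_of_le_of_card_le
        (zpowers_le.mpr (npow_mem_zpowers s b)) (by rw [Nat.card_zpowers, Nat.card_zpowers, h8, h10])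
      obtain ⟨m, hm⟩ : s ∈ zpowers (s ^ b) := h11 ▸ mem_zpowers s
      refine h3 ?_
      rw [← hm]
      exact zpow_mem h4 m
    · obtain ⟨k, hk⟩ := hWp.exists_card_eq
      rw [hUc, hk]
      exact ((Nat.coprime_primes hp hr).mpr hne.symm).pow_right k
  have hT : U = ⊤ := by
    by_contra hT
    have hF : IsFrobeniusComplement U := Frob.isFrobeniusComplement_iff.mpr
      ⟨zpowers_ne_bot.mpr hub, hT, fun a ha y hy e => by
        by_contra hy1
        refine ha (hN (mem_normalizer_of_conj_mem fun b hb => ?_))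
        rw [← hgen y hy hy1] at hb
        obtain ⟨m, rfl⟩ := hb
        simp only
        rw [← conj_zpow]
        exact zpow_mem e m⟩
    obtain ⟨K, hK⟩ := hF.exists_isFrobeniusPair
    have := hK.normal
    obtain ⟨⟨k, hk⟩, hk1⟩ := ne_bot_iff_exists_ne_one.mp hK.ker_ne_bot
    obtain ⟨s, rfl⟩ := QuotientGroup.mk_surjective k
    have hs1 : (s : G ⧸ X) ≠ 1 := fun e => hk1 (Subtype.ext e)
    have hsX : s ∉ X := fun e => hs1 ((QuotientGroup.eq_one_iff s).mpr e)
    obtain ⟨⟨a, ha⟩, ha1⟩ := ne_bot_iff_exists_ne_one.mp hV1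
    have ha1' : a ≠ 1 := fun e => ha1 (Subtype.ext e)
    have hcop := hK.coprime
    rw [hUc] at hcop
    have key := cent_of_isolated iso hVX hVc (Q := K) (t := u)
      (by rw [normalizer_eq_top]; trivial) hp (fun y hy => ?_) ?_ hk ha
    · obtain ⟨k, hk'⟩ := IsPGroup.iff_orderOf.mp hVp ⟨a, ha⟩
      obtain ⟨h3, h4⟩ := order_of_comm (hVX ha) ha1' hsX key
      rw [orderOf_mk] at hk'
      have h5 : orderOf (s : G ⧸ X) ∣ p ^ k := hk' ▸ h4 ▸ orderOf_map_dvd (QuotientGroup.mk' X) s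
      exact hs1 (orderOf_eq_one_iff.mp (Nat.eq_one_of_dvd_coprimes (hcop.pow_right k)
        (orderOf_dvd_natCard _ hk) h5))
    · have h3 : y * u ∉ K := fun e =>
        hub (hK.disjoint ((mul_mem_cancel_left hy).mp e) (mem_zpowers _))
      refine ⟨fun e => h3 (e ▸ one_mem _), ?_⟩
      obtain ⟨c, -, hc⟩ := hK.exists_conj_mem h3
      have h4 := orderOf_dvd_natCard _ hc
      rw [hUc, Frob.orderOf_conj_eq] at h4
      exact orderOf_dvd_iff_pow_eq_one.mp h4
    · obtain ⟨k, hk⟩ := hVp.exists_card_eq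
      rw [hk]
      exact hcop.pow_right k
  refine iso g hg p ?_
  rw [← QuotientGroup.eq_one_iff, QuotientGroup.mk_pow, ← hUc]
  exact orderOf_dvd_iff_pow_eq_one.mp (orderOf_dvd_natCard _ (hT ▸ mem_top _))

end Part

end CfsgLib.Part
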